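import Cfsg.Agent.H381.CV.UOrb
import Cfsg.Agent.H381.CV.USie
import Cfsg.Agent.H357.CV.Tool
import Cfsg.Agent.H149.NegPrime
import Cfsg.Agent.S0283

/-!
# S3442, row X3: `PSU_n(q)`, `n` odd, `n ≥ 5`, `r` not dividing `q + 1` (helper367)

* `psu_order_dvd` : element orders of `PSU_n(q)` divisible by a prime `R` with `n < 2 ord_R(-q)`;
* `exists_frob_rad` : the Frobenius group `q ^ (2 k) : o` in `PSU_(2 k + 1)(q)`, `o ∣ q ^ (2 k) - 1` prime to `q + 1`,
  inside the stabiliser of a maximal isotropic subspace;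
* `hit_psu_odd`.
-/

set_option autoImplicit false
set_option linter.unusedSectionVars false

namespace Cfsg.Agent.H367.CV

open Cfsg Cfsg.Agent.LieClassical Cfsg.Agent.LieClassical.HermBasic Cfsg.Agent.H948.UBase Cfsg.Agent.H948.UProd
  Cfsg.Agent.H948.UTorus
open Cfsg.Agent.ClassicalGeometry.PSUAutBasic (pr)
open Cfsg.Agent.H364.Unitary Cfsg.Agent.H364.Regular
open Cfsg.Agent.H381.CV

universe u v

section Order

variable {F : Type*} [Field F] [Fintype F] {n q : ℕ}

/-- **The element orders divisible by `R`.** -/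
theorem psu_order_dvd (hF : Fintype.card F = q ^ 2) (hn3 : 3 ≤ n) {R : ℕ} (hR : R.Prime) {m : ℕ}
    (hm : orderOf (-(q : ZMod R)) = m) (hmn : n < 2 * m) {N : ℕ}
    (hN : ∀ j, (j = m ∨ 1 ≤ j ∧ j ≤ n - m) → ((-(q : ℤ)) ^ j - 1) ∣ (N : ℤ))
    {y : PSU n F q} (hyR : R ∣ orderOf y) (hy : ((orderOf y : ℕ) : F) ≠ 0) : orderOf y ∣ N := by
  classical
  obtain ⟨g, hgy⟩ := QuotientGroup.mk_surjective y
  obtain ⟨o, ho⟩ := hyR
  have hRF : (R : F) ≠ 0 := by
    intro h
    apply hy
    rw [ho, Nat.cast_mul, h, zero_mul]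
  have h1 : g ^ (orderOf y) ∈ Subgroup.center (SU n F q) := by
    rw [← QuotientGroup.eq_one_iff, QuotientGroup.mk_pow, hgy, pow_orderOf_eq_one]
  have h2 : g ^ (orderOf y * (q + 1)) = 1 := by rw [pow_mul]; exact center_pow hF hn3 h1
  have hm2 : 2 ≤ m := by omega
  have hRq : ¬ R ∣ q + 1 := by
    intro h
    have h3 : ((q + 1 : ℕ) : ZMod R) = 0 := (ZMod.natCast_eq_zero_iff _ _).2 h
    push_cast at h3
    have h4 : (-(q : ZMod R)) = 1 := by rw [neg_eq_iff_add_eq_zero, ← h3]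
    rw [h4, orderOf_one] at hm
    omega
  have hpos : 0 < orderOf y := by
    rcases Nat.eq_zero_or_pos (orderOf y) with h0 | h0
    · exact absurd (by rw [h0, Nat.cast_zero]) hy
    · exact h0
  have hkF : ((orderOf y * (q + 1) : ℕ) : F) ≠ 0 := by
    push_cast
    rw [q_cast_zero hF, zero_add, mul_one]
    exact hy
  have h3 : g ^ (o * (q + 1)) ≠ 1 := by
    intro h
    have h4 : y ^ (o * (q + 1)) = 1 := by
      rw [← hgy, ← QuotientGroup.mk_pow, h]; rfl
    have h5 := orderOf_dvd_of_pow_eq_one h4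
    rw [ho, mul_comm R o] at h5
    have ho0 : 0 < o := by
      rcases Nat.eq_zero_or_pos o with h0 | h0
      · rw [h0, mul_zero] at ho; omega
      · exact h0
    exact hRq (Nat.dvd_of_mul_dvd_mul_left ho0 h5)
  have h4 : g ^ N = 1 := by
    by_contra h5
    obtain ⟨x, hx, hx1⟩ := exists_Ev (K := AlgebraicClosure F) hkF (by rw [← pow_mul, mul_comm, pow_mul, h2, one_pow]) h5
    apply hx1
    obtain ⟨j, hj, hxj⟩ := ev_cases hF hR hm hmn (e := o * (q + 1)) hRF (by
      rw [← h2, ho]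
      congr 1
      ring) h3 hx
    obtain ⟨c, hc⟩ := hN j hj
    rw [← zpow_natCast, hc, _root_.zpow_mul, hxj, _root_.one_zpow]
  have h5 : y ^ N = 1 := by rw [← hgy, ← QuotientGroup.mk_pow, h4]; rfl
  exact orderOf_dvd_of_pow_eq_one h5

end Order

section Gen

variable {F : Type*} [Field F] [Fintype F] {q : ℕ} {hF : Fintype.card F = q ^ 2}
variable {V : Type*} [AddCommGroup V] [Module F V] {B : V →ₛₗ[cj hF] V →ₗ[F] F}

/-- **The Frobenius group**, general form. -/
theorem exists_frob_gen [FiniteDimensional F V] (hB : IsHerm hF B) {n : ℕ} (hn : Module.finrank F V = n) (hn3 : 3 ≤ n)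
    {A : Type*} [AddCommGroup A] [Module F A] [Nontrivial A] (N : A → Module.End F V) (hN0 : N 0 = 1)
    (hmul : ∀ a b, N a * N b = N (a + b)) (hiso : ∀ a, Iso B (N a)) (hinj : ∀ a, N a = 1 → a = 0)
    {w : V} (hw0 : w ≠ 0) (hNw : ∀ a, N a w = w)
    {g : Module.End F V} (hg : Iso B g) (hd : LinearMap.det g = 1) (hgA : ∀ a, ∃ b, g * N a = N b * g)
    {o : ℕ} (ho : g ^ o = 1) (hscal : ∀ i, IsScal (g ^ i) → g ^ i = 1)
    (hfree : ∀ i a, a ≠ 0 → g ^ i * N a = N a * g ^ i → o ∣ i) :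
    ∃ (U : Subgroup (PSU n F q)) (c : PSU n F q), Nat.card U = Nat.card A ∧ orderOf c = o ∧
      (∀ a ∈ U, c * a * c⁻¹ ∈ U) ∧ ∀ i, c ^ i ≠ 1 → ∀ a ∈ U, c ^ i * a = a * c ^ i → a = 1 := by
  obtain ⟨e, he⟩ := exists_coord hB hn
  obtain ⟨p, f, hp, hchar, hk, -⟩ := exists_prime_pow hF
  have := Fact.mk hp
  have hpow : ∀ (a : A) (k : ℕ), N a ^ k = N (k • a) := by
    intro a k
    induction k with
    | zero => rw [pow_zero, zero_smul, hN0]
    | succ k ih => rw [pow_succ, ih, hmul, succ_nsmul]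
  have hdet : ∀ a, LinearMap.det (N a) = 1 := by
    intro a
    have h1 : N a ^ p = 1 := by
      rw [hpow, ← Nat.cast_smul_eq_nsmul F, CharP.cast_eq_zero, zero_smul, hN0]
    have h2 : (LinearMap.det (N a)) ^ p = 1 := by rw [← map_pow, h1, map_one]
    have h3 : frobenius F p (LinearMap.det (N a)) = frobenius F p 1 := by
      rw [frobenius_def, frobenius_def, h2, one_pow]
    exact frobenius_inj F p h3
  let φ : Multiplicative A →* isoM B :=
    { toFun := fun a => ⟨N a.toAdd, hiso _, hdet _⟩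
      map_one' := Subtype.ext (by
        show N (Multiplicative.toAdd 1) = 1
        rw [toAdd_one, hN0])
      map_mul' := fun a b => Subtype.ext (by
        show N (Multiplicative.toAdd (a * b)) = _
        rw [toAdd_mul, ← hmul]
        rfl) }
  let Φ : Multiplicative A →* PSU n F q := (pr n F q).comp ((suHom e he).comp φ)
  let gm : isoM B := ⟨g, hg, hd⟩
  let c : PSU n F q := pr n F q (suHom e he gm)
  have hΦ1 : ∀ a, Φ a = 1 → a = 1 := by
    intro a ha
    have h1 : IsScal (N a.toAdd) := (pr_suHom_eq_one_iff hn3 e he (φ a)).1 ha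
    have h2 := IsScal.eq_one h1 hw0 (hNw _)
    exact Multiplicative.toAdd.injective (by rw [hinj _ h2]; rfl)
  have hΦ : Function.Injective Φ := (injective_iff_map_eq_one Φ).2 hΦ1
  have hci : ∀ i : ℕ, c ^ i = 1 ↔ g ^ i = 1 := by
    intro i
    have h1 : c ^ i = pr n F q (suHom e he (gm ^ i)) := by rw [map_pow, map_pow]
    rw [h1, pr_suHom_eq_one_iff hn3 e he]
    constructor
    · intro h
      exact hscal i h
    · intro h
      have h2 : ((gm ^ i : isoM B) : Module.End F V) = g ^ i := rfl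
      rw [h2, h]
      exact isScal_one
  have hgi : ∀ i : ℕ, g ^ i = 1 ↔ o ∣ i := by
    intro i
    constructor
    · intro h
      obtain ⟨a, ha⟩ := exists_ne (0 : A)
      exact hfree i a ha (by rw [h, one_mul, mul_one])
    · rintro ⟨k, rfl⟩
      rw [pow_mul, ho, one_pow]
  -- conjugation
  have hconj : ∀ (i : ℕ) (a b : A), g ^ i * N a = N b * g ^ i →
      c ^ i * Φ (Multiplicative.ofAdd a) = Φ (Multiplicative.ofAdd b) * c ^ i := by
    intro i a b hab
    have h1 : (gm ^ i) * φ (Multiplicative.ofAdd a) = φ (Multiplicative.ofAdd b) * gm ^ i := Subtype.ext hab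
    have h2 := congrArg (fun z => pr n F q (suHom e he z)) h1
    simp only [map_mul, map_pow] at h2
    exact h2
  refine ⟨Φ.range, c, ?_, ?_, ?_, ?_⟩
  · rw [Nat.card_congr (MonoidHom.ofInjective hΦ).symm.toEquiv, Nat.card_congr Multiplicative.toAdd]
  · apply Nat.dvd_antisymm
    · apply orderOf_dvd_of_pow_eq_one
      rw [hci, hgi]
    · have h1 := (hgi (orderOf c)).1 ((hci _).1 (pow_orderOf_eq_one c))
      exact h1
  · rintro _ ⟨a, rfl⟩
    obtain ⟨b, hb⟩ := hgA a.toAdd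
    have h1 := hconj 1 a.toAdd b (by rw [pow_one]; exact hb)
    rw [pow_one] at h1
    refine ⟨Multiplicative.ofAdd b, ?_⟩
    rw [eq_mul_inv_iff_mul_eq]
    exact h1.symm
  · rintro i hi _ ⟨a, rfl⟩ h
    have hb : ∀ k : ℕ, ∃ b, g ^ k * N a.toAdd = N b * g ^ k := by
      intro k
      induction k with
      | zero => exact ⟨a.toAdd, by rw [pow_zero, one_mul, mul_one]⟩
      | succ k ih =>
        obtain ⟨b, hb⟩ := ih
        obtain ⟨b', hb'⟩ := hgA b
        exact ⟨b', by rw [pow_succ', mul_assoc, hb, ← mul_assoc, hb', mul_assoc]⟩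
    obtain ⟨b, hb⟩ := hb i
    have h1 := hconj i a.toAdd b hb
    have h2 : Φ a = Φ (Multiplicative.ofAdd b) := mul_right_cancel (h.symm.trans h1)
    have h3 : a = Multiplicative.ofAdd b := hΦ h2
    have h4 : a.toAdd = b := by rw [h3]; rfl
    by_contra hne
    have ha0 : a.toAdd ≠ 0 := by
      intro h0
      apply hne
      have : a = 1 := Multiplicative.toAdd.injective (by rw [h0]; rfl)
      rw [this, map_one]
    have h5 := hfree i a.toAdd ha0 (by rw [hb, h4])
    exact hi ((hci i).2 ((hgi i).2 h5))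

end Gen

section Model

variable {F : Type*} [Field F] [Fintype F] {q : ℕ}
variable {K : Type*} [Field K] [Finite K] [Algebra F K]

theorem pow_even (hF : Fintype.card F = q ^ 2) (c : F) (k : ℕ) : c ^ q ^ (2 * k) = c := by
  induction k with
  | zero => simp
  | succ k ih =>
    rw [show 2 * (k + 1) = 2 * k + 2 by ring, pow_add, pow_mul, ih, ← hF, FiniteField.pow_card]

/-- the radical piece: `(x, y) ↦ (x + b ^ q y - b y ^ (q ^ (2 k - 2)), y)` (with `k + 1` for `k`) -/
noncomputable def rad (hF : Fintype.card F = q ^ 2) (k : ℕ) (b : K) : Module.End F (K × K) where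
  toFun x := (x.1 + (b ^ q * x.2 - b * x.2 ^ q ^ (2 * k)), x.2)
  map_add' x y := by
    refine Prod.ext ?_ rfl
    show x.1 + y.1 + (b ^ q * (x.2 + y.2) - b * (x.2 + y.2) ^ q ^ (2 * k)) = x.1 + (b ^ q * x.2 - b * x.2 ^ q ^ (2 * k)) +
      (y.1 + (b ^ q * y.2 - b * y.2 ^ q ^ (2 * k)))
    rw [add_pow_qe hF]; ring
  map_smul' c x := by
    refine Prod.ext ?_ rfl
    show c • x.1 + (b ^ q * (c • x.2) - b * (c • x.2) ^ q ^ (2 * k)) = c • (x.1 + (b ^ q * x.2 - b * x.2 ^ q ^ (2 * k)))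
    rw [Algebra.smul_def, Algebra.smul_def, Algebra.smul_def, mul_pow, ← map_pow, pow_even hF]; ring

theorem rad_apply (hF : Fintype.card F = q ^ 2) (k : ℕ) (b : K) (x : K × K) :
    rad hF k b x = (x.1 + (b ^ q * x.2 - b * x.2 ^ q ^ (2 * k)), x.2) := rfl

theorem rad_zero (hF : Fintype.card F = q ^ 2) (k : ℕ) : rad hF k (0 : K) = 1 := by
  have h2 := two_le hF
  refine LinearMap.ext fun x => ?_
  rw [rad_apply, zero_pow (by omega), zero_mul, zero_mul, sub_zero, add_zero]
  rfl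

theorem rad_mul (hF : Fintype.card F = q ^ 2) (k : ℕ) (a b : K) : rad hF k a * rad hF k b = rad hF k (a + b) := by
  have h1 : (a + b) ^ q = a ^ q + b ^ q := by
    have := add_pow_qe hF 1 a b
    rwa [pow_one] at this
  refine LinearMap.ext fun x => ?_
  rw [Module.End.mul_apply, rad_apply, rad_apply, rad_apply, h1]
  refine Prod.ext ?_ rfl
  show _ + _ + _ = _ + _
  ring

theorem rad_eq_one (hF : Fintype.card F = q ^ 2) {k : ℕ} (hk : 1 ≤ k) (hK : Nat.card K = q ^ (2 * (k + 1))) {b : K}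
    (h : rad hF k b = 1) : b = 0 := by
  have h2 := two_le hF
  by_contra hb
  have h1 : ∀ y : K, b ^ q * y = b * y ^ q ^ (2 * k) := by
    intro y
    have := congrArg Prod.fst (LinearMap.congr_fun h (0, y))
    rw [rad_apply, Module.End.one_apply] at this
    simpa [sub_eq_zero] using this
  have h3 : b ^ q = b := by
    have := h1 1
    rwa [one_pow, mul_one, mul_one] at this
  have h4 : ∀ y : K, y ^ q ^ (2 * k) = y := by
    intro y
    have := h1 y
    rw [h3] at this
    exact (mul_left_cancel₀ hb this).symm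
  obtain ⟨y, hy⟩ := IsCyclic.exists_generator (α := Kˣ)
  have h5 : orderOf y = q ^ (2 * (k + 1)) - 1 := by rw [orderOf_eq_card_of_forall_mem_zpowers hy, Nat.card_units, hK]
  have h6 : y ^ q ^ (2 * k) = y := Units.ext (by rw [Units.val_pow_eq_pow_val]; exact h4 y)
  have h7 : 1 < q ^ (2 * k) := Nat.one_lt_pow (by omega) (by omega)
  have h8 : q ^ (2 * k) < q ^ (2 * (k + 1)) := Nat.pow_lt_pow_right (by omega) (by omega)
  have h9 : y ^ (q ^ (2 * k) - 1) = 1 := by
    have h10 : y ^ (q ^ (2 * k) - 1) * y = 1 * y := by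
      rw [← pow_succ, Nat.sub_add_cancel h7.le, one_mul, h6]
    exact mul_right_cancel h10
  have h10 := Nat.le_of_dvd (by omega) (orderOf_dvd_of_pow_eq_one h9)
  omega

theorem iso_rad (hF : Fintype.card F = q ^ 2) {k e : ℕ} (hk : e = 2 * k + 1) (he : Odd e)
    (hK : Nat.card K = q ^ (2 * (k + 1))) (b : K) : Iso (kForm K hF he) (rad hF k b) := by
  subst hk
  have hadd : ∀ (x y : K) (i : ℕ), (x + y) ^ q ^ i = x ^ q ^ i + y ^ q ^ i := fun x y i => add_pow_qe hF i x y
  have hadd1 : ∀ x y : K, (x + y) ^ q = x ^ q + y ^ q := fun x y => by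
    have := hadd x y 1
    rwa [pow_one] at this
  have hsub1 : ∀ x y : K, (x - y) ^ q = x ^ q - y ^ q := fun x y => by
    rw [eq_sub_iff_add_eq, ← hadd1, sub_add_cancel]
  have hfull : ∀ x : K, x ^ q ^ (2 * (k + 1)) = x := by
    intro x
    have : Fintype K := Fintype.ofFinite K
    rw [← hK, Nat.card_eq_fintype_card]
    exact FiniteField.pow_card x
  intro x y
  rw [kForm_apply, kForm_apply, rad_apply, rad_apply]
  -- the two mixed terms
  have h1 : (b ^ q * x.2 - b * x.2 ^ q ^ (2 * k)) ^ q * y.2 = b ^ q ^ 2 * x.2 ^ q * y.2 - b ^ q * x.2 ^ q ^ (2 * k + 1) * y.2 := by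
    rw [hsub1, mul_pow, mul_pow, ← pow_mul, ← pow_mul, ← pow_two, ← pow_succ]; ring
  have h2 : x.2 ^ q ^ (2 * k + 1) * (b ^ q * y.2 - b * y.2 ^ q ^ (2 * k)) =
      b ^ q * x.2 ^ q ^ (2 * k + 1) * y.2 - b * x.2 ^ q ^ (2 * k + 1) * y.2 ^ q ^ (2 * k) := by ring
  have h3 : (b * x.2 ^ q ^ (2 * k + 1) * y.2 ^ q ^ (2 * k)) ^ q ^ 2 = b ^ q ^ 2 * x.2 ^ q * y.2 := by
    rw [mul_pow, mul_pow, ← pow_mul, ← pow_mul, ← pow_add, ← pow_add]
    have h4 : q ^ (2 * k + 1 + 2) = q ^ (2 * (k + 1)) * q := by ring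
    have h5 : q ^ (2 * k + 2) = q ^ (2 * (k + 1)) := by ring
    rw [h4, h5, pow_mul, hfull, hfull]
  have h4 : Algebra.trace F K (b * x.2 ^ q ^ (2 * k + 1) * y.2 ^ q ^ (2 * k)) =
      Algebra.trace F K (b ^ q ^ 2 * x.2 ^ q * y.2) := by
    rw [← h3]
    have h5 := trace_pow hF 2 (b * x.2 ^ q ^ (2 * k + 1) * y.2 ^ q ^ (2 * k))
    have h6 := pow_even hF (Algebra.trace F K (b * x.2 ^ q ^ (2 * k + 1) * y.2 ^ q ^ (2 * k))) 1
    rw [mul_one] at h6
    rw [← h6]
    exact h5
  show Algebra.trace F K ((x.1 + (b ^ q * x.2 - b * x.2 ^ q ^ (2 * k))) ^ q * y.2) +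
    Algebra.trace F K (x.2 ^ q ^ (2 * k + 1) * (y.1 + (b ^ q * y.2 - b * y.2 ^ q ^ (2 * k)))) = _
  rw [hadd1, add_mul, mul_add, h1, h2, map_add, map_add, map_sub, map_sub, h4]
  ring

theorem tor_rad (hF : Fintype.card F = q ^ 2) {k : ℕ} (hK : Nat.card K = q ^ (2 * (k + 1))) (z : Kˣ) (b : K) :
    torK (F := F) q z * rad hF k b = rad hF k ((z : K) * (z : K) ^ q ^ (2 * k + 1) * b) * torK q z := by
  have hfull : ∀ x : K, x ^ q ^ (2 * (k + 1)) = x := by
    intro x
    have : Fintype K := Fintype.ofFinite K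
    rw [← hK, Nat.card_eq_fintype_card]
    exact FiniteField.pow_card x
  refine LinearMap.ext fun x => ?_
  rw [Module.End.mul_apply, Module.End.mul_apply, rad_apply, torK_apply, torK_apply, rad_apply]
  refine Prod.ext ?_ rfl
  show (z : K) * (x.1 + (b ^ q * x.2 - b * x.2 ^ q ^ (2 * k))) = (z : K) * x.1 +
    (((z : K) * (z : K) ^ q ^ (2 * k + 1) * b) ^ q * ((((z⁻¹) ^ q : Kˣ) : K) * x.2) -
      ((z : K) * (z : K) ^ q ^ (2 * k + 1) * b) * ((((z⁻¹) ^ q : Kˣ) : K) * x.2) ^ q ^ (2 * k))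
  have hzi : (((z⁻¹) ^ q : Kˣ) : K) = ((z : K) ^ q)⁻¹ := by
    rw [Units.val_pow_eq_pow_val, Units.val_inv_eq_inv_val, inv_pow]
  have hz0 : (z : K) ≠ 0 := z.ne_zero
  have h1 : ((z : K) * (z : K) ^ q ^ (2 * k + 1) * b) ^ q = (z : K) ^ q * (z : K) * b ^ q := by
    rw [mul_pow, mul_pow, ← pow_mul, ← pow_succ]
    have h5 : q ^ (2 * k + 1 + 1) = q ^ (2 * (k + 1)) := by ring
    rw [h5, hfull]
  have h2 : (((z : K) ^ q)⁻¹ * x.2) ^ q ^ (2 * k) = ((z : K) ^ q ^ (2 * k + 1))⁻¹ * x.2 ^ q ^ (2 * k) := by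
    rw [mul_pow, inv_pow, ← pow_mul, ← pow_succ']
  rw [hzi, h1, h2]
  have h3 : (z : K) ^ q ≠ 0 := pow_ne_zero _ hz0
  have h4 : (z : K) ^ q ^ (2 * k + 1) ≠ 0 := pow_ne_zero _ hz0
  field_simp

end Model

/-- **The Frobenius group** `q ^ (2 k) : o` in `PSU_(2 k + 1)(q)`, `o ∣ q ^ (2 k) - 1` prime to `q + 1`. -/
theorem exists_frob_rad {F : Type*} [Field F] [Fintype F] {q : ℕ} (hF : Fintype.card F = q ^ 2) {k n : ℕ} (hk : 2 ≤ k)
    (hn : n = 2 * k + 1) {o : ℕ} (ho : o ∣ q ^ (2 * k) - 1) (hoq : Nat.Coprime o (q + 1)) :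
    ∃ (U : Subgroup (PSU n F q)) (c : PSU n F q), Nat.card U = q ^ (2 * k) ∧ orderOf c = o ∧
      (∀ a ∈ U, c * a * c⁻¹ ∈ U) ∧ ∀ i, c ^ i ≠ 1 → ∀ a ∈ U, c ^ i * a = a * c ^ i → a = 1 := by
  classical
  obtain ⟨l, rfl⟩ : ∃ l, k = l + 1 := ⟨k - 1, by omega⟩
  obtain ⟨p, hp⟩ := CharP.exists F
  have hpp : Fact p.Prime := ⟨CharP.char_is_prime F p⟩
  have hk0 : NeZero (l + 1) := ⟨by omega⟩
  let K := FiniteField.Extension F p (l + 1)
  have hcard : Nat.card K = q ^ (2 * (l + 1)) := by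
    show Nat.card (FiniteField.Extension F p (l + 1)) = _
    rw [FiniteField.natCard_extension, Nat.card_eq_fintype_card, hF]; ring
  have h2 := two_le hF
  have he : Odd (2 * l + 1) := ⟨l, rfl⟩
  have hcard' : Nat.card K = q ^ (2 * l + 1 + 1) := by rw [hcard]; congr 1
  have hu : Nat.card Kˣ = q ^ (2 * (l + 1)) - 1 := by rw [Nat.card_units, hcard]
  obtain ⟨z, hz⟩ : ∃ z : Kˣ, orderOf z = o := by
    obtain ⟨y, hy⟩ := IsCyclic.exists_generator (α := Kˣ)
    have h1 : orderOf y = q ^ (2 * (l + 1)) - 1 := by rw [orderOf_eq_card_of_forall_mem_zpowers hy, hu]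
    obtain ⟨t, ht⟩ := ho
    have hpos : 0 < q ^ (2 * (l + 1)) - 1 := by
      have : 1 < q ^ (2 * (l + 1)) := Nat.one_lt_pow (by omega) (by omega)
      omega
    have ht0 : t ≠ 0 := by rintro rfl; omega
    refine ⟨y ^ t, ?_⟩
    rw [orderOf_pow' y ht0, h1, ht, Nat.gcd_eq_right (dvd_mul_left t o), Nat.mul_div_cancel _ (Nat.pos_of_ne_zero ht0)]
  have hB1 : IsHerm hF (kForm K hF he) := isHerm_kForm he hcard'
  have hB : IsHerm hF (prodForm (kForm K hF he) (oneForm hF)) := isHerm_prod hB1 isHerm_one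
  have hi := iso_torK (hF := hF) he hcard' z
  set δ : F := (LinearMap.det (torK (F := F) q z))⁻¹ with hδ
  have hd0 : LinearMap.det (torK (F := F) q z) ≠ 0 := by
    intro h0
    have := det_norm hB1 hi
    rw [h0, zero_pow (by omega)] at this
    exact zero_ne_one this
  have hδ1 : δ ^ (q + 1) = 1 := by rw [hδ, inv_pow, det_norm hB1 hi, inv_one]
  have hi2 : Iso (oneForm hF) (δ • (1 : Module.End F F)) := by
    intro x y
    rw [LinearMap.smul_apply, LinearMap.smul_apply, Module.End.one_apply, Module.End.one_apply, oneForm_apply,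
      oneForm_apply, smul_eq_mul, smul_eq_mul, mul_pow]
    calc δ ^ q * x ^ q * (δ * y) = δ ^ (q + 1) * (x ^ q * y) := by ring
      _ = _ := by rw [hδ1, one_mul]
  have hzo : z ^ o = 1 := by rw [← hz, pow_orderOf_eq_one]
  have hδo : δ ^ o = 1 := by
    rw [hδ, inv_pow, ← map_pow, torK_pow, hzo, ← pow_zero z, ← torK_pow, pow_zero, map_one, inv_one]
  have hfin : Module.finrank F ((K × K) × F) = n := by
    have h1 : Module.finrank F K = l + 1 := FiniteField.finrank_extension F p (l + 1)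
    rw [Module.finrank_prod, Module.finrank_prod, h1, Module.finrank_self, hn]
    ring
  have hpowg : ∀ i : ℕ, ((torK (F := F) q z).prodMap (δ • (1 : Module.End F F))) ^ i =
      (torK (F := F) q (z ^ i)).prodMap (δ ^ i • (1 : Module.End F F)) := by
    intro i
    rw [prodMap_pow, torK_pow, smul_pow, one_pow]
  -- `z ^ i` with `z ^ (i (q + 1)) = 1`
  have hkey : ∀ i : ℕ, (z ^ i) ^ (q + 1) = 1 → z ^ i = 1 := by
    intro i h
    have h3 : (z ^ i) ^ o = 1 := by rw [← pow_mul, mul_comm, pow_mul, hzo, one_pow]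
    have h4 := Nat.dvd_gcd (orderOf_dvd_of_pow_eq_one h3) (orderOf_dvd_of_pow_eq_one h)
    rw [hoq.gcd_eq_one] at h4
    exact orderOf_eq_one_iff.1 (Nat.dvd_one.1 h4)
  have hfull : ∀ x : K, x ^ q ^ (2 * (l + 1)) = x := by
    intro x
    have : Fintype K := Fintype.ofFinite K
    rw [← hcard, Nat.card_eq_fintype_card]
    exact FiniteField.pow_card x
  obtain ⟨U, c, h1, h2, h3, h4⟩ := exists_frob_gen hB hfin (by omega) (A := K)
    (fun b => (rad hF l b).prodMap (1 : Module.End F F))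
    (by rw [rad_zero]; exact LinearMap.ext fun x => rfl)
    (by
      intro a b
      rw [← rad_mul]
      exact LinearMap.ext fun x => rfl)
    (fun b => iso_prod (iso_rad hF rfl he hcard b) Iso.one)
    (by
      intro a h
      apply rad_eq_one hF (by omega) hcard
      refine LinearMap.ext fun x => ?_
      exact congrArg Prod.fst (LinearMap.congr_fun h (x, 0)))
    (w := ((0, 0), 1))
    (by
      intro h
      exact one_ne_zero (congrArg Prod.snd h))
    (by
      intro a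
      show (rad hF l a (0, 0), (1 : F)) = _
      rw [← Prod.zero_eq_mk, map_zero])
    (g := (torK (F := F) q z).prodMap (δ • (1 : Module.End F F)))
    (iso_prod hi hi2)
    (by
      rw [det_prod, LinearMap.det_smul, map_one, mul_one, Module.finrank_self, pow_one, hδ,
        mul_inv_cancel₀ hd0])
    (by
      intro b
      refine ⟨(z : K) * (z : K) ^ q ^ (2 * l + 1) * b, ?_⟩
      have h3 := tor_rad hF hcard z b
      refine LinearMap.ext fun x => ?_
      refine Prod.ext ?_ rfl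
      exact LinearMap.congr_fun h3 x.1)
    (o := o)
    (by
      rw [hpowg, hzo, hδo, one_smul, ← pow_zero z, ← torK_pow, pow_zero]
      exact LinearMap.ext fun x => rfl)
    (by
      rintro i ⟨c, hc⟩
      rw [hpowg] at hc
      have h3 : ((z ^ i : Kˣ) : K) = algebraMap F K c := by
        have : ((z ^ i : Kˣ) : K) * 1 = c • (1 : K) :=
          congrArg (fun x : (K × K) × F => x.1.1) (hc ((1, 0), 0))
        rw [Algebra.algebraMap_eq_smul_one, ← this, mul_one]
      have h4 : (((z ^ i)⁻¹ ^ q : Kˣ) : K) = algebraMap F K c := by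
        have : (((z ^ i)⁻¹ ^ q : Kˣ) : K) * 1 = c • (1 : K) :=
          congrArg (fun x : (K × K) × F => x.1.2) (hc ((0, 1), 0))
        rw [Algebra.algebraMap_eq_smul_one, ← this, mul_one]
      have h5 : (z ^ i)⁻¹ ^ q = z ^ i := Units.ext (h4.trans h3.symm)
      have h6 : z ^ i = 1 := by
        apply hkey
        rw [pow_succ]
        nth_rewrite 2 [← h5]
        rw [← mul_pow, mul_inv_cancel, one_pow]
      rw [h6, Units.val_one] at h3
      have h7 : c = 1 := by
        apply (algebraMap F K).injective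
        rw [← h3, map_one]
      rw [hpowg]
      refine LinearMap.ext fun x => ?_
      have := hc x
      rw [h7, one_smul] at this
      exact this)
    (by
      intro i b hb h
      rw [hpowg] at h
      have h3 : torK (F := F) q (z ^ i) * rad hF l b = rad hF l b * torK (F := F) q (z ^ i) := by
        refine LinearMap.ext fun x => ?_
        exact congrArg Prod.fst (LinearMap.congr_fun h (x, 0))
      rw [tor_rad hF hcard] at h3
      have h4 : rad hF l (((z ^ i : Kˣ) : K) * ((z ^ i : Kˣ) : K) ^ q ^ (2 * l + 1) * b) = rad hF l b := by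
        have h5 : torK (F := F) q (z ^ i) * torK (F := F) q (z ^ i)⁻¹ = 1 := by
          refine LinearMap.ext fun x => ?_
          rw [Module.End.mul_apply, torK_apply, torK_apply]
          refine Prod.ext ?_ ?_
          · show ((z ^ i : Kˣ) : K) * ((((z ^ i)⁻¹ : Kˣ) : K) * x.1) = x.1
            rw [← mul_assoc, Units.mul_inv, one_mul]
          · show ((((z ^ i)⁻¹ ^ q : Kˣ) : K)) * (((((z ^ i)⁻¹)⁻¹ ^ q : Kˣ) : K) * x.2) = x.2
            rw [← mul_assoc, ← Units.val_mul, ← mul_pow, mul_inv_cancel, one_pow, Units.val_one, one_mul]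
        have h6 := congrArg (fun M => M * torK (F := F) q (z ^ i)⁻¹) h3
        simp only [mul_assoc, h5, mul_one] at h6
        rw [← mul_assoc] at h6
        exact h6
      have h5 : rad hF l (((z ^ i : Kˣ) : K) * ((z ^ i : Kˣ) : K) ^ q ^ (2 * l + 1) * b - b) = 1 := by
        rw [sub_eq_add_neg, ← rad_mul, h4, rad_mul, add_neg_cancel, rad_zero]
      have h6 := rad_eq_one hF (by omega) hcard h5
      have h7 : ((z ^ i : Kˣ) : K) * ((z ^ i : Kˣ) : K) ^ q ^ (2 * l + 1) = 1 := by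
        apply mul_right_cancel₀ hb
        rw [one_mul]
        exact sub_eq_zero.1 h6
      have h8 : (z ^ i) ^ (q + 1) = 1 := by
        apply Units.ext
        rw [Units.val_pow_eq_pow_val, Units.val_one]
        have h9 := congrArg (fun x => x ^ q) h7
        simp only [one_pow] at h9
        rw [mul_pow, ← pow_mul, ← pow_succ] at h9
        have h10 : q ^ (2 * l + 1 + 1) = q ^ (2 * (l + 1)) := by ring
        rw [h10, hfull] at h9
        rw [pow_succ]
        exact h9
      rw [← hz]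
      exact orderOf_dvd_of_pow_eq_one (hkey i h8))
  exact ⟨U, c, by rw [h1, hcard], h2, h3, h4⟩

/-- a prime `R` with `ord_R(-q) = i`, `3 ≤ i ≤ n`: `PSU_n(q)` has an element of order `R`. -/
theorem exists_orderOf {F : Type*} [Field F] [Fintype F] {n q : ℕ} (hF : Fintype.card F = q ^ 2) {R i : ℕ} (hR : R.Prime)
    (hi : orderOf (-(q : ZMod R)) = i) (hi3 : 3 ≤ i) (hin : i ≤ n) : ∃ x : PSU n F q, orderOf x = R := by
  have := Fact.mk hR
  have h2 := two_le hF
  have h1 : (-(q : ZMod R)) ^ i = 1 := by rw [← hi, pow_orderOf_eq_one]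
  have hd : R ∣ ph q (i - 1) := by
    unfold ph
    rw [Nat.sub_add_cancel (by omega)]
    rcases Nat.even_or_odd i with h | h
    · rw [if_neg (by rw [Nat.not_even_iff_odd]; exact Nat.Even.sub_odd (by omega) h odd_one)]
      rw [← ZMod.natCast_eq_zero_iff, Nat.cast_sub (Nat.one_le_pow _ _ (by omega))]
      rw [h.neg_pow] at h1
      push_cast
      rw [h1, sub_self]
    · rw [if_pos (Nat.Odd.sub_odd h odd_one)]
      rw [← ZMod.natCast_eq_zero_iff]
      rw [h.neg_pow] at h1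
      push_cast
      rw [← h1, add_neg_cancel]
  have h3 := dvd_card_SU hF (m := n) (by omega) (by omega : i - 1 < n) hd
  obtain ⟨x, hx⟩ := exists_prime_orderOf_dvd_card' R h3
  have hRq : ¬ R ∣ q + 1 := by
    intro h
    have h3 : ((q + 1 : ℕ) : ZMod R) = 0 := (ZMod.natCast_eq_zero_iff _ _).2 h
    push_cast at h3
    have h4 : (-(q : ZMod R)) = 1 := by rw [neg_eq_iff_add_eq_zero, ← h3]
    rw [h4, orderOf_one] at hi
    omega
  refine ⟨QuotientGroup.mk x, orderOf_eq_prime ?_ ?_⟩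
  · rw [← QuotientGroup.mk_pow, ← hx, pow_orderOf_eq_one]; rfl
  · intro h
    have h4 : x ∈ Subgroup.center (SU n F q) := (QuotientGroup.eq_one_iff _).1 h
    have h5 := orderOf_dvd_of_pow_eq_one (center_pow hF (by omega) h4)
    rw [hx] at h5
    exact hRq h5

/-- **Row X3.** -/
theorem hit_psu_odd {F : Type v} [Field F] [Fintype F] {n q : ℕ} (hF : Fintype.card F = q ^ 2) (hn5 : 5 ≤ n) (hodd : Odd n)
    {r : ℕ} (hr : r.Prime) (hrq : ¬ r ∣ q) (hrq1 : ¬ r ∣ q + 1) : Cfsg.Agent.H373.CV.Hit.{u, v} r (PSU n F q) := by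
  classical
  have h2 := two_le hF
  obtain ⟨k, rfl⟩ := hodd
  obtain ⟨p, f, hp, hchar, hqp, hf⟩ := exists_prime_pow hF
  have hpF := Fact.mk hp
  have hsim : IsSimpleGroup (PSU (2 * k + 1) F q) := Cfsg.Agent.S0283.result hF (2 * k + 1) (by omega) (by omega)
  have hrp : r ≠ p := by
    rintro rfl
    exact hrq (by rw [hqp]; exact dvd_pow_self _ (by omega))
  have hcastF : ∀ m : ℕ, ¬ p ∣ m → (m : F) ≠ 0 := by
    intro m hm h
    exact hm ((CharP.cast_eq_zero_iff F p m).1 h)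
  have hrF : ¬ p ∣ r := fun h => hrp ((Nat.prime_dvd_prime_iff_eq hp hr).1 h).symm
  -- the two primes
  obtain ⟨R, hR, hRo, -, hRp, -⟩ := Cfsg.Agent.H149.NegPrime.exists_neg_prime (i := 2 * k) hp hqp (by omega) (by omega)
    (by rintro ⟨h, -⟩; omega)
  obtain ⟨S, hS, hSo, -, hSp, -⟩ := Cfsg.Agent.H149.NegPrime.exists_neg_prime (i := 2 * k + 1) hp hqp (by omega) (by omega)
    (by rintro ⟨h, -⟩; omega)
  have hRF : ¬ p ∣ R := fun h => hRp ((Nat.prime_dvd_prime_iff_eq hp hR).1 h).symm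
  have hSF : ¬ p ∣ S := fun h => hSp ((Nat.prime_dvd_prime_iff_eq hp hS).1 h).symm
  have hM1 : 1 ≤ q ^ (2 * k) := Nat.one_le_pow _ _ (by omega)
  have hMpos : 0 < q ^ (2 * k) - 1 := by
    have : 1 < q ^ (2 * k) := Nat.one_lt_pow (by omega) (by omega)
    omega
  have hMz : ((q ^ (2 * k) - 1 : ℕ) : ℤ) = (-(q : ℤ)) ^ (2 * k) - 1 := by
    rw [(even_two_mul k).neg_pow]; push_cast [hM1]; rfl
  have hNz : ((q ^ (2 * k + 1) + 1 : ℕ) : ℤ) = -((-(q : ℤ)) ^ (2 * k + 1) - 1) := by
    rw [(odd_two_mul_add_one k).neg_pow]; push_cast; ring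
  have hRM : R ∣ q ^ (2 * k) - 1 := by
    have h1 : (-(q : ZMod R)) ^ (2 * k) = 1 := by rw [← hRo, pow_orderOf_eq_one]
    rw [← ZMod.natCast_eq_zero_iff, Nat.cast_sub hM1]
    rw [(even_two_mul k).neg_pow] at h1
    push_cast
    rw [h1, sub_self]
  have hRq1 : ¬ R ∣ q + 1 := by
    intro h
    have h3 : ((q + 1 : ℕ) : ZMod R) = 0 := (ZMod.natCast_eq_zero_iff _ _).2 h
    push_cast at h3
    have h4 : (-(q : ZMod R)) = 1 := by rw [neg_eq_iff_add_eq_zero, ← h3]
    rw [h4, orderOf_one] at hRo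
    omega
  -- the orders
  have hordR : ∀ y : PSU (2 * k + 1) F q, R ∣ orderOf y → ¬ p ∣ orderOf y → orderOf y ∣ q ^ (2 * k) - 1 := by
    intro y hy hyp
    refine psu_order_dvd hF (by omega) hR hRo (by omega) ?_ hy (hcastF _ hyp)
    rintro j (rfl | ⟨h3, h4⟩)
    · rw [hMz]
    · obtain rfl : j = 1 := by omega
      rw [hMz, pow_one]
      simpa using sub_dvd_pow_sub_pow (-(q : ℤ)) 1 (2 * k)
  have hordS : ∀ y : PSU (2 * k + 1) F q, S ∣ orderOf y → ¬ p ∣ orderOf y → orderOf y ∣ q ^ (2 * k + 1) + 1 := by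
    intro y hy hyp
    refine psu_order_dvd hF (by omega) hS hSo (by omega) ?_ hy (hcastF _ hyp)
    rintro j (rfl | ⟨h3, h4⟩)
    · rw [hNz, dvd_neg]
    · omega
  -- the element `c`
  have := Fact.mk hr
  set a := padicValNat r (q ^ (2 * k) - 1) with ha
  have ha1 : r ^ a ∣ q ^ (2 * k) - 1 := pow_padicValNat_dvd
  have ha2 : ¬ r ^ (a + 1) ∣ q ^ (2 * k) - 1 := pow_succ_padicValNat_not_dvd hMpos.ne'
  set o := Nat.lcm R (r ^ a) with ho
  have hoM : o ∣ q ^ (2 * k) - 1 := Nat.lcm_dvd hRM ha1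
  have hoq : Nat.Coprime o (q + 1) := by
    refine Nat.Coprime.coprime_dvd_left (Nat.lcm_dvd_mul R (r ^ a)) ?_
    exact Nat.Coprime.mul_left ((Nat.Prime.coprime_iff_not_dvd hR).2 hRq1)
      (Nat.Coprime.pow_left a ((Nat.Prime.coprime_iff_not_dvd hr).2 hrq1))
  have hop : ¬ p ∣ o := by
    intro h
    rcases (Nat.Prime.dvd_mul hp).1 (h.trans (Nat.lcm_dvd_mul R (r ^ a))) with h3 | h3
    · exact hRF h3
    · exact hrF (hp.dvd_of_dvd_pow h3)
  obtain ⟨U, c, hU, hc, hn, hfix⟩ := exists_frob_rad hF (by omega) rfl hoM hoq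
  have hoc : ∀ y : PSU (2 * k + 1) F q, orderOf y ≠ r * orderOf c := by
    intro y hy
    rw [hc] at hy
    have h3 : r * o ∣ q ^ (2 * k) - 1 := by
      rw [← hy]
      refine hordR y ?_ ?_
      · rw [hy]; exact (Nat.dvd_lcm_left R (r ^ a)).mul_left r
      · rw [hy]
        intro h
        rcases (Nat.Prime.dvd_mul hp).1 h with h3 | h3
        · exact hrF h3
        · exact hop h3
    apply ha2
    rw [pow_succ']
    exact (mul_dvd_mul_left r (Nat.dvd_lcm_right R (r ^ a))).trans h3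
  refine Cfsg.Agent.H357.CV.hit_of_frob hr ?_ U ?_ ?_ c hn hfix hoc
  · by_cases hrM : r ∣ q ^ (2 * k) - 1
    · obtain ⟨x, hx⟩ := exists_orderOf (n := 2 * k + 1) hF hS hSo (by omega) le_rfl
      have hrS : r ≠ S := by
        rintro rfl
        have h3 : (-(q : ZMod r)) ^ (2 * k) = 1 := by
          rw [(even_two_mul k).neg_pow, ← sub_eq_zero]
          rw [← ZMod.natCast_eq_zero_iff, Nat.cast_sub hM1] at hrM
          push_cast at hrM
          exact hrM
        have h4 := orderOf_dvd_of_pow_eq_one h3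
        rw [hSo] at h4
        have := Nat.le_of_dvd (by omega) h4
        omega
      refine ⟨x, ?_, ?_⟩
      · rw [hx]
        exact fun h => hrS ((Nat.prime_dvd_prime_iff_eq hr hS).1 h)
      · intro y hy
        rw [hx] at hy
        have h3 : r * S ∣ q ^ (2 * k + 1) + 1 := by
          rw [← hy]
          refine hordS y ?_ ?_
          · rw [hy]; exact dvd_mul_left S r
          · rw [hy]
            intro h
            rcases (Nat.Prime.dvd_mul hp).1 h with h3 | h3
            · exact hrF h3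
            · exact hSF h3
        apply hrq1
        have h4 : r ∣ q ^ (2 * k + 1) + 1 := (dvd_mul_right r S).trans h3
        have h5 : q ^ (2 * k + 1) + 1 = q * (q ^ (2 * k) - 1) + (q + 1) := by
          obtain ⟨t, ht⟩ : ∃ t, q ^ (2 * k) = t + 1 := ⟨q ^ (2 * k) - 1, by omega⟩
          rw [pow_succ, ht, Nat.add_sub_cancel]; ring
        rw [h5] at h4
        exact (Nat.dvd_add_right (hrM.mul_left q)).1 h4
    · refine ⟨c, ?_, hoc⟩
      rw [hc]
      exact fun h => hrM (h.trans hoM)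
  · intro h
    rw [h, Subgroup.card_bot] at hU
    omega
  · rw [hU]
    exact fun h => hrq (hr.dvd_of_dvd_pow h)

end Cfsg.Agent.H367.CV
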